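import Groth.Agent.CatSpaceLib.Scheme
import Groth.Agent.DimFormulaLib.Catenary
import Groth.Agent.DimFormulaLib.Misc
import Groth.Agent.DimFormulaLib.FibreComp
import Groth.Agent.DimFormulaLib.Closed

/-!
Dimensions in Jacobson universally catenary schemes with equidimensional components: every point closure is
equidimensional, and irreducible schemes locally of finite type over such a base are equidimensional.
-/

set_option autoImplicit false

universe u

open CategoryTheory AlgebraicGeometry Topology TopologicalSpace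

namespace Groth.Agent.JacEquidimLib

open CatSpaceLib

section Order

variable {α : Type u} [PartialOrder α]

theorem length_le_dist {a b : α} (s : LTSeries α) (h1 : a ≤ s.head) (h2 : s.last ≤ b) :
    (s.length : ℕ∞) ≤ dist a b := by
  rcases h1.eq_or_lt with h | h
  · exact le_iSup₂ (f := fun (t : LTSeries α) (_ : t.head = a ∧ t.last ≤ b) => (t.length : ℕ∞)) s ⟨h.symm, h2⟩
  · refine le_trans ?_ (le_iSup₂ (f := fun (t : LTSeries α) (_ : t.head = a ∧ t.last ≤ b) => (t.length : ℕ∞))
      (s.cons a h) ⟨RelSeries.head_cons _ _ _, by rw [RelSeries.last_cons]; exact h2⟩)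
    exact_mod_cast (by simp : s.length ≤ (s.cons a h).length)

theorem dist_eq_krullDim_Icc {a b : α} (h : a ≤ b) :
    Order.krullDim (Set.Icc a b) = (dist a b : WithBot ℕ∞) := by
  haveI : Nonempty (Set.Icc a b) := ⟨⟨a, le_rfl, h⟩⟩
  rw [Order.krullDim_eq_iSup_length, WithBot.coe_inj]
  refine le_antisymm (iSup_le fun s => ?_) (iSup₂_le fun s hs => ?_)
  · exact length_le_dist (s.map Subtype.val fun _ _ h => h) (by rw [LTSeries.head_map]; exact s.head.2.1)
      (by rw [LTSeries.last_map]; exact s.last.2.2)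
  · refine le_iSup_of_le (⟨s.length, fun i => ⟨s i, hs.1 ▸ s.head_le i, (s.monotone (Fin.le_last i)).trans hs.2⟩,
      fun i => s.step i⟩ : LTSeries (Set.Icc a b)) le_rfl

end Order

section Space

variable {X : Scheme.{u}}

/-- Irreducible closed subsets of a subspace and points of it. -/
theorem exists_generic_sub (W : Set X) (hW : ∀ (t w : X), t ∈ W → w ⤳ t → w ∈ closure W → w ∈ W)
    (T : IrreducibleCloseds ↥W) :
    ∃ w ∈ W, mapEmb (Subtype.val : W → X) IsInducing.subtypeVal T = ofPoint w := by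
  obtain ⟨w, hw⟩ := exists_ofPoint (mapEmb (Subtype.val : W → X) IsInducing.subtypeVal T)
  refine ⟨w, ?_, hw.symm⟩
  obtain ⟨t, ht⟩ := T.isIrreducible.nonempty
  have h1 : (t : X) ∈ closure ({w} : Set X) := by
    show (t : X) ∈ ((ofPoint w : IrreducibleCloseds X) : Set X)
    rw [hw]
    exact subset_closure ⟨t, ht, rfl⟩
  refine hW t w t.2 (specializes_iff_mem_closure.2 h1) ?_
  have h2 : w ∈ ((ofPoint w : IrreducibleCloseds X) : Set X) := subset_closure rfl
  rw [hw] at h2
  exact closure_mono (by rintro _ ⟨y, -, rfl⟩; exact y.2) h2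

theorem mapEmb_point {W : Set X} (w : X) (hw : w ∈ W) :
    mapEmb (Subtype.val : W → X) IsInducing.subtypeVal (ofPoint (⟨w, hw⟩ : W)) = ofPoint w := by
  refine IrreducibleCloseds.ext ?_
  show closure (Subtype.val '' closure ({⟨w, hw⟩} : Set W)) = closure {w}
  refine subset_antisymm (closure_minimal ?_ isClosed_closure) (closure_mono ?_)
  · refine (image_closure_subset_closure_image continuous_subtype_val).trans ?_
    rw [Set.image_singleton]
  · exact Set.singleton_subset_iff.2 ⟨_, subset_closure rfl, rfl⟩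

/-- The dimension of the generizations of `x` inside the closure of `c`. -/
theorem topologicalKrullDim_interval {c x : X} (h : c ⤳ x) :
    topologicalKrullDim ↥{t : X | t ∈ closure ({c} : Set X) ∧ t ⤳ x} =
      (dist (ofPoint x) (ofPoint c) : WithBot ℕ∞) := by
  rw [← dist_eq_krullDim_Icc (ofPoint_le.2 h), topologicalKrullDim]
  let W : Set X := {t : X | t ∈ closure ({c} : Set X) ∧ t ⤳ x}
  let e := mapEmb (Subtype.val : W → X) IsInducing.subtypeVal
  have hgen : ∀ T, ∃ w ∈ W, e T = ofPoint w := exists_generic_sub W fun t w ht hwt hw =>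
    ⟨closure_minimal (fun y hy => hy.1) isClosed_closure hw, hwt.trans ht.2⟩
  have hmem : ∀ T, e T ∈ Set.Icc (ofPoint x) (ofPoint c) := fun T => by
    obtain ⟨w, hw, he⟩ := hgen T
    rw [he]
    exact ⟨ofPoint_le.2 hw.2, ofPoint_le.2 (specializes_iff_mem_closure.2 hw.1)⟩
  refine Order.krullDim_eq_of_orderIso (RelIso.ofSurjective
    (OrderEmbedding.ofMapLEIff (fun T => (⟨e T, hmem T⟩ : Set.Icc (ofPoint x) (ofPoint c))) fun a b => e.le_iff_le) ?_)
  rintro ⟨T, hT1, hT2⟩
  obtain ⟨w, rfl⟩ := exists_ofPoint T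
  exact ⟨ofPoint ⟨w, specializes_iff_mem_closure.1 (ofPoint_le.1 hT2), ofPoint_le.1 hT1⟩,
    Subtype.ext (mapEmb_point w _)⟩

/-- A bound for the dimension of a subspace stable under generization within itself. -/
theorem topologicalKrullDim_le_sub (W : Set X) (D : WithBot ℕ∞)
    (hW : ∀ (t w : X), t ∈ W → w ⤳ t → w ∈ closure W → ∃ c, c ⤳ w ∧ topologicalKrullDim ↥(closure ({c} : Set X)) ≤ D) :
    topologicalKrullDim ↥W ≤ D := by
  rw [topologicalKrullDim]
  refine iSup_le fun s => ?_
  obtain ⟨w, hw⟩ := exists_ofPoint (mapEmb (Subtype.val : W → X) IsInducing.subtypeVal s.last)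
  obtain ⟨t, ht⟩ := s.last.isIrreducible.nonempty
  have h1 : (t : X) ∈ ((ofPoint w : IrreducibleCloseds X) : Set X) := by
    rw [hw]
    exact subset_closure ⟨t, ht, rfl⟩
  have h2 : w ∈ closure W := by
    have h2 : w ∈ ((ofPoint w : IrreducibleCloseds X) : Set X) := subset_closure rfl
    rw [hw] at h2
    exact closure_mono (by rintro _ ⟨y, -, rfl⟩; exact y.2) h2
  obtain ⟨c, hc, hD⟩ := hW t w t.2 (specializes_iff_mem_closure.2 h1) h2
  refine le_trans ?_ hD
  let s' := s.map (mapEmb (Subtype.val : W → X) IsInducing.subtypeVal) (OrderEmbedding.strictMono _)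
  let e := mapEmb (Subtype.val : ↥(closure ({c} : Set X)) → X) IsInducing.subtypeVal
  have hle : ∀ i, ∃ T, e T = s' i := fun i => by
    obtain ⟨v, hv⟩ := exists_ofPoint (s' i)
    have hvc : c ⤳ v := ofPoint_le.1 (by
      rw [hv]
      refine (s'.monotone (Fin.le_last i)).trans ?_
      show s'.last ≤ _
      rw [LTSeries.last_map, ← hw]
      exact ofPoint_le.2 hc)
    exact ⟨ofPoint ⟨v, specializes_iff_mem_closure.1 hvc⟩, (mapEmb_point v _).trans hv⟩
  choose T hT using hle
  exact le_iSup_of_le (⟨s.length, T, fun i => e.lt_iff_lt.1 (by rw [hT, hT]; exact s'.step i)⟩ :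
    LTSeries (IrreducibleCloseds ↥(closure ({c} : Set X)))) le_rfl

variable [IsLocallyNoetherian X] [JacobsonSpace X]

theorem exists_closed_specialization (c : X) : ∃ p : X, c ⤳ p ∧ IsClosed ({p} : Set X) := by
  obtain ⟨p, hp, hpc⟩ := nonempty_inter_closedPoints (Z := closure ({c} : Set X)) ⟨c, subset_closure rfl⟩
    isClosed_closure.isLocallyClosed
  exact ⟨p, specializes_iff_mem_closure.2 hp, hpc⟩

variable (h2 : ∀ x : X, CAlg.IsUniversallyCatenary (X.presheaf.stalk x))
  (h3 : ∀ X' ∈ irreducibleComponents (X : Type u), ∀ x ∈ X', IsClosed ({x} : Set X) →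
      topologicalKrullDim (↥X' : Type u) = topologicalKrullDim ↥{t : X | t ∈ X' ∧ t ⤳ x})

include h2 in
theorem catOrd : CatOrd (IrreducibleCloseds ↥X) :=
  isCatenarySpace_iff.1 ((forall_isCatenarySpace_iff X).2 h2 X (𝟙 X) inferInstance)

include h2 h3 in
theorem dist_closed_eq {c p p' : X} (hp : c ⤳ p) (hpc : IsClosed ({p} : Set X)) (hp' : c ⤳ p')
    (hpc' : IsClosed ({p'} : Set X)) : dist (ofPoint p) (ofPoint c) = dist (ofPoint p') (ofPoint c) := by
  obtain ⟨ξ, hξ, hmax⟩ := DimFormulaLib.exists_maximal_point c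
  have hcomp := DimFormulaLib.closure_mem_irreducibleComponents hmax
  have key : ∀ q, c ⤳ q → IsClosed ({q} : Set X) →
      ((dist (ofPoint q) (ofPoint c) + dist (ofPoint c) (ofPoint ξ) : ℕ∞) : WithBot ℕ∞) =
        topologicalKrullDim ↥(closure ({ξ} : Set X)) := fun q hq hqc => by
    rw [← dist_add (catOrd h2) (ofPoint_le.2 hq) (ofPoint_le.2 hξ), ← topologicalKrullDim_interval (hξ.trans hq)]
    exact (h3 _ hcomp q (specializes_iff_mem_closure.1 (hξ.trans hq)) hqc).symm
  exact ENat.add_left_injective_of_ne_top (dist_ne_top (catOrd h2) (ofPoint_le.2 hξ))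
    (WithBot.coe_inj.1 ((key p hp hpc).trans (key p' hp' hpc').symm))

include h2 h3 in
/-- Closures of points are equidimensional. -/
theorem dim_closure_eq_dist {c p : X} (hp : c ⤳ p) (hpc : IsClosed ({p} : Set X)) :
    topologicalKrullDim ↥(closure ({c} : Set X)) = (dist (ofPoint p) (ofPoint c) : WithBot ℕ∞) := by
  refine le_antisymm ?_ ?_
  · rw [topologicalKrullDim]
    refine iSup_le fun s => ?_
    let e := mapEmb (Subtype.val : ↥(closure ({c} : Set X)) → X) IsInducing.subtypeVal
    obtain ⟨w, hw⟩ := exists_ofPoint (e s.head)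
    obtain ⟨q, hwq, hq⟩ := exists_closed_specialization w
    have hle : ∀ T, e T ≤ ofPoint c := fun T =>
      closure_minimal (by rintro _ ⟨y, -, rfl⟩; exact y.2) isClosed_closure
    have hcw : c ⤳ w := ofPoint_le.1 (hw.trans_le (hle _))
    rw [dist_closed_eq h2 h3 hp hpc (hcw.trans hwq) hq]
    refine WithBot.coe_le_coe.2 ?_
    exact length_le_dist (s.map e e.strictMono) (by rw [LTSeries.head_map, ← hw]; exact ofPoint_le.2 hwq)
      (by rw [LTSeries.last_map]; exact hle _)
  · rw [← topologicalKrullDim_interval hp]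
    exact (IsEmbedding.inclusion fun t ht => ht.1).isInducing.topologicalKrullDim_le

include h2 h3 in
theorem dim_closure_eq_add {c x : X} (h : c ⤳ x) :
    topologicalKrullDim ↥(closure ({c} : Set X)) =
      topologicalKrullDim ↥(closure ({x} : Set X)) + (dist (ofPoint x) (ofPoint c) : WithBot ℕ∞) := by
  obtain ⟨p, hp, hpc⟩ := exists_closed_specialization x
  rw [dim_closure_eq_dist h2 h3 (h.trans hp) hpc, dim_closure_eq_dist h2 h3 hp hpc,
    dist_add (catOrd h2) (ofPoint_le.2 hp) (ofPoint_le.2 h), WithBot.coe_add]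

end Space

section Over

variable {S Y : Scheme.{u}} [IsLocallyNoetherian S] [JacobsonSpace S]

theorem resTrdegAt_closed (q : Y ⟶ S) [LocallyOfFiniteType q] {y : Y} (hy : IsClosed ({y} : Set Y)) :
    DimFormulaLib.resTrdegAt q y = 0 := by
  obtain ⟨n, hn⟩ := DimFormulaLib.exists_nat_resTrdegAt q y
  obtain ⟨t, ht, htn⟩ := DimFormulaLib.exists_series_of_resTrdegAt q y n hn.ge
  rcases Nat.eq_zero_or_pos n with h0 | h0
  · rw [hn, h0, Nat.cast_zero]
  · exfalso
    have h : t ⟨t.length - 1, by omega⟩ < t.last := t.strictMono (by simp [Fin.lt_def]; omega)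
    rw [ht] at h
    have hs : y ⤳ t ⟨t.length - 1, by omega⟩ := Scheme.le_iff_specializes.1 h.le
    have he : t ⟨t.length - 1, by omega⟩ = y := hs.mem_closed hy rfl
    exact lt_irrefl _ (he ▸ h)

variable (h2 : ∀ x : S, CAlg.IsUniversallyCatenary (S.presheaf.stalk x))
  (h3 : ∀ X' ∈ irreducibleComponents (S : Type u), ∀ x ∈ X', IsClosed ({x} : Set S) →
      topologicalKrullDim (↥X' : Type u) = topologicalKrullDim ↥{t : S | t ∈ X' ∧ t ⤳ x})

include h2 in
theorem universallyCatenary_stalks [IsLocallyNoetherian Y] (q : Y ⟶ S) [LocallyOfFiniteType q] (y : Y) :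
    CAlg.IsUniversallyCatenary (Y.presheaf.stalk y) :=
  (forall_isCatenarySpace_iff Y).1 (fun Z g _ => (forall_isCatenarySpace_iff S).2 h2 Z (g ≫ q) inferInstance) y

/-- The relative height in a chart is the distance in the scheme. -/
theorem relHeight_eq_dist (hS : CatOrd (IrreducibleCloseds ↥S)) {A : Type u} [CommRing A] [IsNoetherianRing A]
    (i : Spec (CommRingCat.of A) ⟶ S) [IsOpenImmersion i] {P Q : PrimeSpectrum A} (h : P ≤ Q) :
    DimFormulaLib.relHeight P Q = dist (ofPoint (i Q)) (ofPoint (i P)) := by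
  obtain ⟨n, s, hn, sh, sl, sn, ss⟩ := DimFormulaLib.exists_saturated_between h
  let e := primeEmb (R := CommRingCat.of A) i
  have hconv : (Set.range e).OrdConnected := by
    refine ⟨fun T hT T' _ W hW => ?_⟩
    obtain ⟨w, hw⟩ := exists_ofPoint W
    obtain ⟨p, rfl⟩ := hT
    exact mem_range_primeEmb i hw (open_generization i w _ (ofPoint_le.1 (hW.1.trans_eq hw.symm)) ⟨_, rfl⟩)
  let t : LTSeries (IrreducibleCloseds ↥S) := ⟨s.length, fun j => e (OrderDual.toDual (s j.rev)), fun j =>
    e.lt_iff_lt.2 (by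
      rw [OrderDual.toDual_lt_toDual, Fin.rev_castSucc, Fin.rev_succ]
      exact s.step j.rev)⟩
  have hts : ∀ j : Fin t.length, t j.castSucc ⋖ t j.succ := fun j => by
    refine hconv.apply_covBy_apply_iff (f := e) |>.2 ?_
    rw [toDual_covBy_toDual_iff, Fin.rev_castSucc, Fin.rev_succ]
    exact ss j.rev
  have h' := length_eq_dist hS t hts
  have e1 : t.head = ofPoint (i Q) := by
    show e (OrderDual.toDual (s (Fin.rev 0))) = _
    rw [Fin.rev_zero]
    exact congrArg (fun z => ofPoint (i z)) sl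
  have e2 : t.last = ofPoint (i P) := by
    show e (OrderDual.toDual (s (Fin.rev (Fin.last _)))) = _
    rw [Fin.rev_last]
    exact congrArg (fun z => ofPoint (i z)) sh
  rw [e1, e2] at h'
  rw [hn, ← sn]
  exact h'

include h2 h3 in
/-- Closed points of an irreducible scheme locally of finite type have local rings of full dimension. -/
theorem dim_stalk_closed (q : Y ⟶ S) [LocallyOfFiniteType q] [IrreducibleSpace Y] [IsLocallyNoetherian Y]
    {y : Y} (hy : IsClosed ({y} : Set Y)) :
    ∃ b n : ℕ, topologicalKrullDim ↥(closure ({q (genericPoint Y)} : Set S)) = (b : WithBot ℕ∞) ∧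
      DimFormulaLib.resTrdegAt q (genericPoint Y) = n ∧
      ringKrullDim (Y.presheaf.stalk y) = ((b + n : ℕ) : WithBot ℕ∞) := by
  obtain ⟨c⟩ := DimFormulaLib.exists_chart q y
  haveI := c.isNoetherianRing
  haveI : IsNoetherianRing c.B := Algebra.FiniteType.isNoetherianRing c.A c.B
  obtain ⟨P₀, hP₀, hmin⟩ := c.exists_generic
  obtain ⟨n, hn⟩ := DimFormulaLib.exists_nat_trdeg_quotient_pair (A := c.A) P₀
  have h0 : Algebra.trdeg (c.A ⧸ (PrimeSpectrum.comap (algebraMap c.A c.B) c.q).asIdeal) (c.B ⧸ c.q.asIdeal) =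
      ((0 : ℕ) : Cardinal.{u}) := by
    rw [Nat.cast_zero, ← resTrdegAt_closed q hy]
    exact c.resTrdegAt_self.symm
  obtain ⟨a, b, ha, hb, -, heq⟩ := DimFormulaLib.formula_component (hmin c.q) n 0 hn h0
  have hab : a = b + n := by simpa using heq (c.catAbove (h2 _))
  have hQ : c.i (PrimeSpectrum.comap (algebraMap c.A c.B) c.q) = q y := c.hp
  have hP : c.i (PrimeSpectrum.comap (algebraMap c.A c.B) P₀) = q (genericPoint Y) := by
    rw [← c.apply_j, hP₀]
  have hle : PrimeSpectrum.comap (algebraMap c.A c.B) P₀ ≤ PrimeSpectrum.comap (algebraMap c.A c.B) c.q :=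
    Ideal.comap_mono (hmin c.q)
  rw [relHeight_eq_dist (catOrd h2) c.i hle, hQ, hP] at hb
  refine ⟨b, n, ?_, ?_, ?_⟩
  · have hyc : IsClosed ({q y} : Set S) := q.closePoints_subset_preimage_closedPoints hy
    rw [dim_closure_eq_dist h2 h3 (((genericPoint_specializes y)).map q.continuous) hyc, hb]
    rfl
  · rw [← hP₀, c.resTrdegAt_eq, hn]
  · rw [c.dim_stalk_source, ← DimFormulaLib.Chart.relHeight_eq_of_min hmin, ha, hab]
    rfl

include h2 h3 in
theorem dim_stalk_closed_eq (q : Y ⟶ S) [LocallyOfFiniteType q] [IrreducibleSpace Y] [IsLocallyNoetherian Y]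
    {y : Y} (hy : IsClosed ({y} : Set Y)) :
    ringKrullDim (Y.presheaf.stalk y) = topologicalKrullDim ↥Y := by
  refine le_antisymm ?_ ?_
  · rw [DimFormulaLib.topologicalKrullDim_eq_iSup_stalk]
    exact le_iSup (fun z : ↥Y => ringKrullDim (Y.presheaf.stalk z)) y
  haveI : JacobsonSpace Y := LocallyOfFiniteType.jacobsonSpace q
  rw [DimFormulaLib.topologicalKrullDim_eq_iSup_stalk]
  refine iSup_le fun z => ?_
  obtain ⟨p, hzp, hp⟩ := exists_closed_specialization z
  obtain ⟨b, n, hb, hn, hy'⟩ := dim_stalk_closed h2 h3 q hy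
  obtain ⟨b', n', hb', hn', hp'⟩ := dim_stalk_closed h2 h3 q hp
  have e1 : b = b' := by exact_mod_cast hb.symm.trans hb'
  have e2 : n = n' := by exact_mod_cast hn.symm.trans hn'
  rw [hy', e1, e2, ← hp', ringKrullDim_stalk_eq_coheight, ringKrullDim_stalk_eq_coheight]
  exact WithBot.coe_le_coe.2 (Order.coheight_anti (Scheme.le_iff_specializes.2 hzp))

end Over

end Groth.Agent.JacEquidimLib
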