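import Groth.Agent.CatSpaceLib.Scheme
import Groth.Agent.DimFormulaLib.Converse
import Groth.Agent.DimFormulaLib.Chart

/-!
Dimensions of quotients of local rings by primes as lengths of chains of points.
-/

set_option autoImplicit false

universe u v

open CategoryTheory AlgebraicGeometry Topology TopologicalSpace

namespace Groth.Agent.JacEquidimLib

open CatSpaceLib

theorem krullDim_Icc_congr {α : Type u} {β : Type v} [PartialOrder α] [PartialOrder β] (e : α ↪o β)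
    (he : (Set.range e).OrdConnected) {a b : α} :
    Order.krullDim (Set.Icc a b) = Order.krullDim (Set.Icc (e a) (e b)) := by
  refine Order.krullDim_eq_of_orderIso (RelIso.ofSurjective (OrderEmbedding.ofMapLEIff
    (fun x => (⟨e x.1, e.monotone x.2.1, e.monotone x.2.2⟩ : Set.Icc (e a) (e b))) fun x y => e.le_iff_le) ?_)
  rintro ⟨y, hy1, hy2⟩
  obtain ⟨x, rfl⟩ := he.out ⟨a, rfl⟩ ⟨b, rfl⟩ ⟨hy1, hy2⟩
  exact ⟨⟨x, e.le_iff_le.1 hy1, e.le_iff_le.1 hy2⟩, rfl⟩

theorem krullDim_Icc_relHeight {C : Type u} [CommRing C] {P Q : PrimeSpectrum C} (h : P ≤ Q) :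
    Order.krullDim (Set.Icc P Q) = (DimFormulaLib.relHeight P Q : WithBot ℕ∞) := by
  obtain ⟨Φ, hord, hr, hI⟩ := DimFormulaLib.exists_quotEmb P
  obtain ⟨x, hx⟩ : Q ∈ Set.range Φ := hr ▸ h
  rw [DimFormulaLib.relHeight, ← hI x Q hx, PrimeSpectrum.height_eq_orderHeight, Order.height_eq_krullDim_Iic]
  refine (Order.krullDim_eq_of_orderIso (RelIso.ofSurjective (OrderEmbedding.ofMapLEIff
    (fun z : Set.Iic x => (⟨Φ z.1, by
      have : Φ z.1 ∈ Set.Ici P := hr ▸ Set.mem_range_self _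
      exact ⟨this, hx ▸ Φ.monotone z.2⟩⟩ : Set.Icc P Q)) fun z w => Φ.le_iff_le) ?_)).symm
  rintro ⟨y, hy1, hy2⟩
  obtain ⟨z, rfl⟩ : y ∈ Set.range Φ := hr ▸ hy1
  exact ⟨⟨z, Φ.le_iff_le.1 (hx.symm ▸ hy2)⟩, rfl⟩

theorem ringKrullDim_quotient_eq_Icc {R : Type u} [CommRing R] [IsLocalRing R] (P : PrimeSpectrum R) :
    ringKrullDim (R ⧸ P.asIdeal) = Order.krullDim (Set.Icc P (IsLocalRing.closedPoint R)) := by
  obtain ⟨Φ, hord, hr, -⟩ := DimFormulaLib.exists_quotEmb P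
  refine Order.krullDim_eq_of_orderIso (RelIso.ofSurjective (OrderEmbedding.ofMapLEIff
    (fun z => (⟨Φ z, (hr ▸ Set.mem_range_self z : Φ z ∈ Set.Ici P), IsLocalRing.le_maximalIdeal (Φ z).isPrime.ne_top⟩ :
      Set.Icc P (IsLocalRing.closedPoint R))) fun z w => Φ.le_iff_le) ?_)
  rintro ⟨y, hy1, hy2⟩
  obtain ⟨z, rfl⟩ : y ∈ Set.range Φ := hr ▸ hy1
  exact ⟨z, rfl⟩

theorem ordConnected_primeEmb {X : Scheme.{u}} {R : CommRingCat.{u}} (g : Spec R ⟶ X) [IsPreimmersion g]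
    (hg : ∀ a b : X, a ⤳ b → b ∈ Set.range g → a ∈ Set.range g) : (Set.range (primeEmb g)).OrdConnected := by
  refine ⟨fun T hT T' _ W hW => ?_⟩
  obtain ⟨w, hw⟩ := exists_ofPoint W
  obtain ⟨p, rfl⟩ := hT
  exact mem_range_primeEmb g hw (hg w _ (ofPoint_le.1 (hW.1.trans_eq hw.symm)) ⟨_, rfl⟩)

theorem krullDim_Icc_primeEmb {X : Scheme.{u}} {R : CommRingCat.{u}} (g : Spec R ⟶ X) [IsPreimmersion g]
    (hg : ∀ a b : X, a ⤳ b → b ∈ Set.range g → a ∈ Set.range g) {P Q : PrimeSpectrum R} :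
    Order.krullDim (Set.Icc P Q) = Order.krullDim (Set.Icc (ofPoint (g Q)) (ofPoint (g P))) := by
  refine Eq.trans ?_ (krullDim_Icc_congr (primeEmb g) (ordConnected_primeEmb g hg)
    (a := OrderDual.toDual Q) (b := OrderDual.toDual P))
  refine (Order.krullDim_orderDual (α := Set.Icc P Q)).symm.trans (Order.krullDim_eq_of_orderIso
    { toFun := fun z => ⟨OrderDual.toDual (OrderDual.ofDual z).1, (OrderDual.ofDual z).2.2, (OrderDual.ofDual z).2.1⟩
      invFun := fun z => OrderDual.toDual ⟨OrderDual.ofDual z.1, z.2.2, z.2.1⟩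
      left_inv := fun _ => rfl
      right_inv := fun _ => rfl
      map_rel_iff' := Iff.rfl })

/-- The quotient of a local ring by a prime, seen in an affine chart. -/
theorem ringKrullDim_quotient_stalk_eq {X : Scheme.{u}} {A : Type u} [CommRing A]
    (i : Spec (CommRingCat.of A) ⟶ X) [IsOpenImmersion i] {P Q : PrimeSpectrum A} (hPQ : P ≤ Q)
    {x : X} (hQ : i Q = x) (𝔭 : PrimeSpectrum (X.presheaf.stalk x)) (hP : i P = X.fromSpecStalk x 𝔭) :
    ringKrullDim (X.presheaf.stalk x ⧸ 𝔭.asIdeal) = (DimFormulaLib.relHeight P Q : WithBot ℕ∞) := by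
  rw [ringKrullDim_quotient_eq_Icc, ← krullDim_Icc_relHeight hPQ,
    krullDim_Icc_primeEmb (X.fromSpecStalk x) (stalk_generization x), krullDim_Icc_primeEmb i (open_generization i),
    hQ, hP, Scheme.fromSpecStalk_closedPoint]

end Groth.Agent.JacEquidimLib
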