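import Groth.Agent.JacEquidimLib.Basic
import Groth.Agent.JacEquidimLib.StalkQuot
import Groth.Agent.GenFree.Modules
import Groth.Agent.PullbackMod.SuppClosed
import Mathlib.RingTheory.Support

/-!
Schemes locally of finite type over a Jacobson universally catenary base with equidimensional components inherit
these properties; the dimension of a stalk of a module in terms of the generizations in its support.
-/

set_option autoImplicit false

universe u

open CategoryTheory AlgebraicGeometry Topology TopologicalSpace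

namespace Groth.Agent.JacEquidimLib

open CatSpaceLib

theorem dist_eq_ringKrullDim_stalk {X : Scheme.{u}} [IrreducibleSpace X] (x : X) :
    ringKrullDim (X.presheaf.stalk x) = (dist (ofPoint x) (ofPoint (genericPoint X)) : WithBot ℕ∞) := by
  rw [← topologicalKrullDim_interval (genericPoint_specializes x)]
  have hset : {t : X | t ∈ closure ({genericPoint X} : Set X) ∧ t ⤳ x} = Set.range (X.fromSpecStalk x) := by
    rw [Scheme.range_fromSpecStalk]
    refine Set.ext fun t => ⟨fun h => h.2, fun h => ⟨?_, h⟩⟩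
    rw [(genericPoint_spec X).def]
    trivial
  have hemb : IsEmbedding (X.fromSpecStalk x) := (X.fromSpecStalk x).isEmbedding
  rw [hset, ← IsHomeomorph.topologicalKrullDim_eq _ hemb.toHomeomorph.isHomeomorph]
  exact (PrimeSpectrum.topologicalKrullDim_eq_ringKrullDim _).symm

variable {X S : Scheme.{u}} [IsLocallyNoetherian S] [JacobsonSpace S]
  (h2 : ∀ x : S, CAlg.IsUniversallyCatenary (S.presheaf.stalk x))
  (h3 : ∀ X' ∈ irreducibleComponents (S : Type u), ∀ x ∈ X', IsClosed ({x} : Set S) →
      topologicalKrullDim (↥X' : Type u) = topologicalKrullDim ↥{t : S | t ∈ X' ∧ t ⤳ x})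

include h2 h3 in
/-- The irreducible components of a scheme locally of finite type over the base are equidimensional. -/
theorem components_equidim (g : X ⟶ S) [LocallyOfFiniteType g] :
    ∀ X' ∈ irreducibleComponents (X : Type u), ∀ x ∈ X', IsClosed ({x} : Set X) →
      topologicalKrullDim (↥X' : Type u) = topologicalKrullDim ↥{t : X | t ∈ X' ∧ t ⤳ x} := by
  intro X' hX' x hx hxc
  obtain ⟨c, rfl, -⟩ := DimFormulaLib.exists_generic_of_mem_irreducibleComponents hX'
  let C : Closeds X := ⟨closure {c}, isClosed_closure⟩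
  let ι := (Scheme.IdealSheafData.vanishingIdeal C).subschemeι
  have hι : IsClosedEmbedding ι := ι.isClosedEmbedding
  have hr : Set.range ι = closure ({c} : Set X) := by
    rw [show Set.range ι = ((Scheme.IdealSheafData.vanishingIdeal C).support : Set X) from
      (Scheme.IdealSheafData.vanishingIdeal C).range_subschemeι, Scheme.IdealSheafData.coe_support_vanishingIdeal]
    rfl
  let Z := (Scheme.IdealSheafData.vanishingIdeal C).subscheme
  let e : ↥Z ≃ₜ ↥(closure ({c} : Set X)) := hι.toIsEmbedding.toHomeomorph.trans (Homeomorph.setCongr hr)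
  haveI : IrreducibleSpace ↥(closure ({c} : Set X)) :=
    { toPreirreducibleSpace := Subtype.preirreducibleSpace isIrreducible_singleton.closure.isPreirreducible
      toNonempty := ⟨⟨c, subset_closure rfl⟩⟩ }
  haveI : IrreducibleSpace Z := e.symm.surjective.irreducibleSpace e.symm.continuous
  haveI : IsLocallyNoetherian Z := LocallyOfFiniteType.isLocallyNoetherian (ι ≫ g)
  obtain ⟨z, hz⟩ : x ∈ Set.range ι := hr ▸ hx
  have hzc : IsClosed ({z} : Set Z) := by
    rw [hι.isClosed_iff_image_isClosed, Set.image_singleton, hz]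
    exact hxc
  have h1 : topologicalKrullDim ↥(closure ({c} : Set X)) = topologicalKrullDim Z :=
    (e.isHomeomorph.topologicalKrullDim_eq).symm
  rw [h1, ← dim_stalk_closed_eq h2 h3 (ι ≫ g) hzc, dist_eq_ringKrullDim_stalk,
    ← topologicalKrullDim_interval (genericPoint_specializes z)]
  let W : Set Z := {t : Z | t ∈ closure ({genericPoint Z} : Set Z) ∧ t ⤳ z}
  let W' : Set X := {t : X | t ∈ closure ({c} : Set X) ∧ t ⤳ x}
  have hW : ∀ t : Z, ι t ∈ W' ↔ t ∈ W := fun t => by
    show _ ∧ _ ↔ _ ∧ _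
    rw [(genericPoint_spec Z).def, ← hz, hι.isInducing.specializes_iff]
    simp [← hr]
  have himg : ι '' W = W' := Set.ext fun t => ⟨fun ⟨s, hs, hst⟩ => hst ▸ (hW s).2 hs, fun ht => by
    obtain ⟨s, rfl⟩ : t ∈ Set.range ι := hr ▸ ht.1
    exact ⟨s, (hW s).1 ht, rfl⟩⟩
  show topologicalKrullDim ↥W = topologicalKrullDim ↥W'
  rw [← himg]
  exact ((hι.toIsEmbedding.homeomorphImage W).isHomeomorph.topologicalKrullDim_eq)

theorem mem_support_stalk_iff {M : X.Modules} [Coh.IsQCoh M] (x : X) (p : PrimeSpectrum (X.presheaf.stalk x)) :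
    p ∈ Module.support (X.presheaf.stalk x) (M.presheaf.stalk x) ↔ X.fromSpecStalk x p ∈ CohB1.support M := by
  obtain ⟨_, ⟨W : X.Opens, (hW : IsAffineOpen W), rfl⟩, hxW, -⟩ :=
    X.isBasis_affineOpens.exists_subset_of_mem_open (Set.mem_univ x) isOpen_univ
  let t := X.fromSpecStalk x p
  have htx : t ⤳ x := by
    have : t ∈ Set.range (X.fromSpecStalk x) := ⟨_, rfl⟩
    rwa [Scheme.range_fromSpecStalk] at this
  have htW : t ∈ W := htx.mem_open W.2 hxW
  let q : PrimeSpectrum Γ(X, W) := PrimeSpectrum.comap (X.presheaf.germ W x hxW).hom p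
  have hq : q = hW.primeIdealOf ⟨t, htW⟩ := by
    refine hW.fromSpec.isOpenEmbedding.injective ?_
    rw [hW.fromSpec_primeIdealOf]
    exact (congrArg (fun g : Spec (X.presheaf.stalk x) ⟶ X => g p)
      (hW.fromSpecStalk_eq_fromSpecStalk hxW) : _)
  letI : Algebra Γ(X, W) (X.presheaf.stalk x) := TopCat.Presheaf.algebra_section_stalk X.presheaf ⟨x, hxW⟩
  haveI := hW.isLocalization_stalk ⟨x, hxW⟩
  letI := Module.compHom (M.presheaf.stalk x) (X.presheaf.germ W x hxW).hom
  haveI : IsScalarTower Γ(X, W) (X.presheaf.stalk x) (M.presheaf.stalk x) := .of_algebraMap_smul fun _ _ => rfl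
  obtain ⟨g, hg⟩ := GenFree.exists_isLocalizedModule_germ M hW x hxW
  obtain ⟨g', hg'⟩ := GenFree.exists_isLocalizedModule_germ M hW t htW
  letI := Module.compHom (M.presheaf.stalk t) (X.presheaf.germ W t htW).hom
  have hne : t ∈ CohB1.support M ↔ q ∈ Module.support Γ(X, W) Γ(M, W) := by
    rw [Module.mem_support_iff, hq]
    refine Iff.trans ?_ ((IsLocalizedModule.iso (hW.primeIdealOf ⟨t, htW⟩).asIdeal.primeCompl g').toEquiv.nontrivial_congr).symm
    exact not_subsingleton_iff_nontrivial
  rw [show X.fromSpecStalk x p = t from rfl, hne, Module.mem_support_iff', Module.mem_support_iff']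
  have hle : ∀ r, r ∈ q.asIdeal → r ∈ (hW.primeIdealOf ⟨x, hxW⟩).asIdeal := fun r hr => by
    rw [← IsLocalization.AtPrime.to_map_mem_maximal_iff (X.presheaf.stalk x) (hW.primeIdealOf ⟨x, hxW⟩).asIdeal]
    exact IsLocalRing.le_maximalIdeal p.isPrime.ne_top hr
  constructor
  · rintro ⟨m', hm'⟩
    obtain ⟨⟨m, s⟩, hms⟩ := IsLocalizedModule.surj (hW.primeIdealOf ⟨x, hxW⟩).asIdeal.primeCompl g m'
    refine ⟨m, fun r hr hrm => hm' (algebraMap Γ(X, W) (X.presheaf.stalk x) ((s : Γ(X, W)) * r)) ?_ ?_⟩
    · exact fun h => (q.isPrime.mem_or_mem (show (s : Γ(X, W)) * r ∈ q.asIdeal from h)).elim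
        (fun hs => s.2 (hle _ hs)) hr
    · rw [algebraMap_smul, mul_comm, mul_smul]
      exact (congrArg (fun z => r • z) hms).trans (by rw [← map_smul, hrm, map_zero])
  · rintro ⟨m, hm⟩
    refine ⟨g m, fun r hr hrm => ?_⟩
    obtain ⟨⟨a, s⟩, has⟩ := IsLocalization.surj (hW.primeIdealOf ⟨x, hxW⟩).asIdeal.primeCompl r
    have ha : a ∉ q.asIdeal := fun h => by
      have h' : algebraMap Γ(X, W) (X.presheaf.stalk x) a ∈ p.asIdeal := h
      rw [← has] at h'
      rcases p.isPrime.mem_or_mem h' with h'' | h''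
      · exact hr h''
      · exact s.2 (hle _ h'')
    have h0 : g (a • m) = 0 := by
      rw [map_smul, ← algebraMap_smul (X.presheaf.stalk x), ← has, mul_comm, mul_smul, hrm, smul_zero]
    obtain ⟨u, hu⟩ := (IsLocalizedModule.eq_zero_iff (hW.primeIdealOf ⟨x, hxW⟩).asIdeal.primeCompl g).1 h0
    rw [Submonoid.smul_def, ← mul_smul] at hu
    exact hm _ (fun h => (q.isPrime.mem_or_mem h).elim (fun h' => u.2 (hle _ h')) ha) hu

theorem supportDim_stalk_eq {M : X.Modules} [Coh.IsQCoh M] (hcl : IsClosed (CohB1.support M)) (x : X) :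
    Module.supportDim (X.presheaf.stalk x) (M.presheaf.stalk x) =
      topologicalKrullDim ↥{t : X | t ∈ CohB1.support M ∧ t ⤳ x} := by
  let W : Set X := {t : X | t ∈ CohB1.support M ∧ t ⤳ x}
  rw [Module.supportDim, topologicalKrullDim]
  let e := mapEmb (Subtype.val : W → X) IsInducing.subtypeVal
  have hmem : ∀ p : PrimeSpectrum (X.presheaf.stalk x),
      p ∈ Module.support (X.presheaf.stalk x) (M.presheaf.stalk x) → X.fromSpecStalk x p ∈ W := fun p hp =>
    ⟨(mem_support_stalk_iff x p).1 hp, by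
      have : X.fromSpecStalk x p ∈ Set.range (X.fromSpecStalk x) := ⟨_, rfl⟩
      rwa [Scheme.range_fromSpecStalk] at this⟩
  rw [← Order.krullDim_orderDual (α := Module.support (X.presheaf.stalk x) (M.presheaf.stalk x))]
  refine Order.krullDim_eq_of_orderIso (RelIso.ofSurjective (OrderEmbedding.ofMapLEIff
    (fun p => ofPoint (⟨X.fromSpecStalk x (OrderDual.ofDual p).1, hmem _ (OrderDual.ofDual p).2⟩ : W))
    fun a b => ?_) ?_)
  · rw [ofPoint_le, subtype_specializes_iff, (X.fromSpecStalk x).isEmbedding.isInducing.specializes_iff]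
    exact (PrimeSpectrum.le_iff_specializes _ _).symm
  · intro T
    obtain ⟨w, hw, hwe⟩ := exists_generic_sub W (fun t w ht hwt hw =>
      ⟨closure_minimal (fun y hy => hy.1) hcl hw, hwt.trans ht.2⟩) T
    obtain ⟨p, rfl⟩ : w ∈ Set.range (X.fromSpecStalk x) := by
      rw [Scheme.range_fromSpecStalk]; exact hw.2
    refine ⟨OrderDual.toDual ⟨p, (mem_support_stalk_iff x p).2 hw.1⟩, e.injective ?_⟩
    rw [hwe]
    exact mapEmb_point _ _

end Groth.Agent.JacEquidimLib
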