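import Groth.Agent.JacEquidimLib.Over
import Groth.Agent.FibreDepth.AbsDepth
import Groth.Agent.FibreDepth.Presentation
import Groth.Agent.NoethPtsLib.Basic
import Groth.Agent.CMCat.Polynomial
import Groth.Agent.S10881

/-!
Openness of rectified depth for schemes locally of finite type over regular Jacobson schemes with equidimensional
components.
-/

set_option autoImplicit false

universe u

open CategoryTheory AlgebraicGeometry Topology TopologicalSpace TensorProduct

namespace Groth.Agent.JacEquidimLib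

open CatSpaceLib FibreDepth

/-- Depth along a surjective presentation of the ring. -/
theorem depth_presentation {P B O M Mx : Type u} [CommRing P] [CommRing B] [CommRing O] [IsLocalRing O] [Algebra P B]
    [Algebra B O] [AddCommGroup M] [Module B M] [Module P M] [IsScalarTower P B M] [Module.Finite P M]
    [AddCommGroup Mx] [Module O Mx] [Module B Mx] [IsScalarTower B O Mx]
    (hπ : Function.Surjective (algebraMap P B)) (q : PrimeSpectrum B) [IsLocalization.AtPrime O q.asIdeal]
    (g : M →ₗ[B] Mx) [IsLocalizedModule q.asIdeal.primeCompl g] :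
    tensDepth P (Localization.AtPrime (PrimeSpectrum.comap (algebraMap P B) q).asIdeal) M = LocCoh.depth O Mx ∧
      (Subsingleton (Localization.AtPrime (PrimeSpectrum.comap (algebraMap P B) q).asIdeal ⊗[P] M) ↔
        Subsingleton Mx) := by
  let p := PrimeSpectrum.comap (algebraMap P B) q
  let S := Localization.AtPrime p.asIdeal
  have hunit : ∀ y : p.asIdeal.primeCompl, IsUnit (((algebraMap B O).comp (algebraMap P B)) y) := fun y =>
    IsLocalization.map_units O (⟨algebraMap P B y, y.2⟩ : q.asIdeal.primeCompl)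
  letI : Algebra S O := (IsLocalization.lift hunit).toAlgebra
  letI : Algebra P O := ((algebraMap B O).comp (algebraMap P B)).toAlgebra
  haveI : IsScalarTower P B O := .of_algebraMap_eq fun _ => rfl
  haveI : IsScalarTower P S O := .of_algebraMap_eq fun x => (IsLocalization.lift_eq hunit x).symm
  have hsurj : Function.Surjective (algebraMap S O) := fun z => by
    obtain ⟨x, ⟨s, hs⟩, rfl⟩ := IsLocalization.exists_mk'_eq q.asIdeal.primeCompl z
    obtain ⟨x, rfl⟩ := hπ x
    obtain ⟨s, rfl⟩ := hπ s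
    refine ⟨IsLocalization.mk' S x (⟨s, hs⟩ : p.asIdeal.primeCompl), ?_⟩
    show IsLocalization.lift hunit _ = _
    rw [IsLocalization.lift_mk'_spec]
    show algebraMap B O (algebraMap P B x) = algebraMap B O (algebraMap P B s) * _
    exact (IsLocalization.mk'_spec' O (algebraMap P B x) (⟨algebraMap P B s, hs⟩ : q.asIdeal.primeCompl)).symm
  letI : Module S Mx := Module.compHom Mx (algebraMap S O)
  haveI : IsScalarTower S O Mx := .of_algebraMap_smul fun _ _ => rfl
  letI : Module P Mx := Module.compHom Mx (algebraMap P B)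
  haveI : IsScalarTower P B Mx := .of_algebraMap_smul fun _ _ => rfl
  haveI : IsScalarTower P S Mx := .of_algebraMap_smul fun b z => by
    show algebraMap S O (algebraMap P S b) • z = algebraMap P B b • z
    rw [← IsScalarTower.algebraMap_apply, IsScalarTower.algebraMap_apply P B O, algebraMap_smul]
  haveI : IsLocalizedModule (Algebra.algebraMapSubmonoid B p.asIdeal.primeCompl) g := by
    rw [primeCompl_eq_image hπ q]; infer_instance
  haveI : IsLocalizedModule p.asIdeal.primeCompl (g.restrictScalars P) := IsLocalizedModule.restrictScalars _ _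
  obtain ⟨h1, -, h3⟩ := tens_of_chart (O := S) p.asIdeal (g.restrictScalars P)
  exact ⟨h1.trans (depth_of_surjective hsurj), h3⟩

section Space

variable {T : Scheme.{u}}

theorem krullDim_closure_eq_Icc [IsLocallyNoetherian T] [JacobsonSpace T]
    (h2 : ∀ x : T, CAlg.IsUniversallyCatenary (T.presheaf.stalk x))
    (h3 : ∀ X' ∈ irreducibleComponents (T : Type u), ∀ x ∈ X', IsClosed ({x} : Set T) →
      topologicalKrullDim (↥X' : Type u) = topologicalKrullDim ↥{t : T | t ∈ X' ∧ t ⤳ x})
    {R : CommRingCat.{u}} (i : Spec R ⟶ T) [IsOpenImmersion i] {q m : PrimeSpectrum R} (hqm : q ≤ m)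
    (hm : m.asIdeal.IsMaximal) :
    topologicalKrullDim ↥(closure ({i q} : Set T)) = Order.krullDim (Set.Icc q m) := by
  have hc : IsClosed ({i m} : Set T) := by
    refine isClosed_singleton_of_isLocallyClosed_singleton ?_
    have h1 : IsClosed ({m} : Set ↥(Spec R)) := (PrimeSpectrum.isClosed_singleton_iff_isMaximal m).2 hm
    have h2 := h1.isLocallyClosed.image i.isOpenEmbedding.isInducing
      i.isOpenEmbedding.isOpen_range.isLocallyClosed
    exact (Set.image_singleton : i '' ({m} : Set ↥(Spec R)) = {i m}) ▸ h2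
  have hsp : i q ⤳ i m := ((PrimeSpectrum.le_iff_specializes _ _).1 hqm).map i.continuous
  rw [dim_closure_eq_dist h2 h3 hsp hc, krullDim_Icc_primeEmb i (open_generization i),
    dist_eq_krullDim_Icc (ofPoint_le.2 hsp)]

theorem exists_nat_dim_closure [IsLocallyNoetherian T] [JacobsonSpace T]
    (h2 : ∀ x : T, CAlg.IsUniversallyCatenary (T.presheaf.stalk x))
    (h3 : ∀ X' ∈ irreducibleComponents (T : Type u), ∀ x ∈ X', IsClosed ({x} : Set T) →
      topologicalKrullDim (↥X' : Type u) = topologicalKrullDim ↥{t : T | t ∈ X' ∧ t ⤳ x})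
    (c : T) : ∃ n : ℕ, topologicalKrullDim ↥(closure ({c} : Set T)) = (n : WithBot ℕ∞) := by
  obtain ⟨p, hp, hpc⟩ := exists_closed_specialization c
  obtain ⟨n, hn⟩ := ENat.ne_top_iff_exists.1 (dist_ne_top (catOrd h2) (ofPoint_le.2 hp))
  exact ⟨n, by rw [dim_closure_eq_dist h2 h3 hp hpc, ← hn]; rfl⟩

/-- A point with a domain as local ring has one generic point above it. -/
theorem eq_of_maximal_of_isDomain (x : T) [IsDomain (T.presheaf.stalk x)] {η η' : T} (h : η ⤳ x) (h' : η' ⤳ x)
    (hη : ∀ w, w ⤳ η → w = η) (hη' : ∀ w, w ⤳ η' → w = η') : η = η' := by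
  have key : ∀ e : T, e ⤳ x → (∀ w, w ⤳ e → w = e) →
      e = T.fromSpecStalk x (⟨⊥, Ideal.isPrime_bot⟩ : PrimeSpectrum (T.presheaf.stalk x)) := fun e he hmax => by
    obtain ⟨r, rfl⟩ : e ∈ Set.range (T.fromSpecStalk x) := by
      rw [Scheme.range_fromSpecStalk]; exact he
    refine (hmax _ ?_).symm
    exact ((PrimeSpectrum.le_iff_specializes _ _).1
      (bot_le : (⊥ : Ideal _) ≤ (r : PrimeSpectrum (T.presheaf.stalk x)).asIdeal)).map
      (T.fromSpecStalk x).continuous
  exact (key η h hη).trans (key η' h' hη').symm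

end Space

variable {X S : Scheme.{u}} [IsLocallyNoetherian S] [JacobsonSpace S]

include S in
theorem universallyCatenary_of_regular (hreg : ∀ s : S, IsRegularLocalRing (S.presheaf.stalk s)) (s : S) :
    CAlg.IsUniversallyCatenary (S.presheaf.stalk s) := by
  haveI := hreg s
  haveI : LocCoh.IsCohenMacaulayLocalRing (S.presheaf.stalk s) := S10881.cm_of_regular _
  haveI : LocCoh.IsCohenMacaulayRing (S.presheaf.stalk s) := CMCat.isCohenMacaulayRing_of_local
  exact CMCat.isUniversallyCatenary_of_cm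

theorem isRegularRing_section (hreg : ∀ s : S, IsRegularLocalRing (S.presheaf.stalk s)) {V : S.Opens}
    (hV : IsAffineOpen V) : IsRegularRing Γ(S, V) := by
  haveI : IsNoetherianRing Γ(S, V) := IsLocallyNoetherian.component_noetherian ⟨V, hV⟩
  refine ⟨fun p _ => ?_⟩
  let y : S := hV.fromSpec ⟨p, inferInstance⟩
  have hy : y ∈ V := by
    rw [← SetLike.mem_coe, ← hV.range_fromSpec]
    exact ⟨_, rfl⟩
  letI : Algebra Γ(S, V) (S.presheaf.stalk y) := TopCat.Presheaf.algebra_section_stalk S.presheaf ⟨y, hy⟩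
  haveI : IsLocalization.AtPrime (S.presheaf.stalk y) p := by
    have h := hV.isLocalization_stalk ⟨y, hy⟩
    have e : hV.primeIdealOf ⟨y, hy⟩ = ⟨p, inferInstance⟩ :=
      hV.fromSpec.isOpenEmbedding.injective (hV.fromSpec_primeIdealOf _)
    rwa [e] at h
  haveI := hreg y
  exact regular_localization (O := S.presheaf.stalk y) p

variable (hreg : ∀ s : S, IsRegularLocalRing (S.presheaf.stalk s))
  (h3 : ∀ X' ∈ irreducibleComponents (S : Type u), ∀ x ∈ X', IsClosed ({x} : Set S) →
      topologicalKrullDim (↥X' : Type u) = topologicalKrullDim ↥{t : S | t ∈ X' ∧ t ⤳ x})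

/-- The rectified depth. -/
noncomputable def pstar (F : X.Modules) (x : X) : WithBot ℕ∞ :=
  ((LocCoh.depth ↑(X.presheaf.stalk x) ↑(F.presheaf.stalk x) : ℕ∞) : WithBot ℕ∞) +
    topologicalKrullDim ↥(closure ({x} : Set X))

include hreg h3 in
theorem isOpen_pstar (g : X ⟶ S) [LocallyOfFiniteType g] (F : X.Modules) (hF : Coh.IsCoh F) (n : ℕ) :
    IsOpen {x : X | (n : WithBot ℕ∞) ≤ pstar F x} := by
  have h2 := universallyCatenary_of_regular hreg
  haveI : IsLocallyNoetherian X := LocallyOfFiniteType.isLocallyNoetherian g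
  haveI : JacobsonSpace X := LocallyOfFiniteType.jacobsonSpace g
  haveI : Coh.IsQCoh F := hF.1
  refine isOpen_iff_forall_mem_open.2 fun x hx => ?_
  obtain ⟨_, ⟨V : S.Opens, (hV : IsAffineOpen V), rfl⟩, hxV, -⟩ :=
    S.isBasis_affineOpens.exists_subset_of_mem_open (Set.mem_univ (g x)) isOpen_univ
  obtain ⟨_, ⟨W : X.Opens, (hW : IsAffineOpen W), rfl⟩, hxW, hWV : W ≤ g ⁻¹ᵁ V⟩ :=
    X.isBasis_affineOpens.exists_subset_of_mem_open (show x ∈ g ⁻¹ᵁ V from hxV) (g ⁻¹ᵁ V).isOpen
  let A := Γ(S, V)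
  let B := Γ(X, W)
  have hft : (g.appLE V W hWV).hom.FiniteType := LocallyOfFiniteType.finiteType_appLE g hV hW hWV
  letI : Algebra A B := (g.appLE V W hWV).hom.toAlgebra
  haveI : Algebra.FiniteType A B := hft
  obtain ⟨m, π, hπ⟩ := Algebra.FiniteType.iff_quotient_mvPolynomial''.1 (inferInstance : Algebra.FiniteType A B)
  let P := MvPolynomial (Fin m) A
  letI : Algebra P B := π.toRingHom.toAlgebra
  have hπ' : Function.Surjective (algebraMap P B) := hπ
  haveI : IsNoetherianRing A := IsLocallyNoetherian.component_noetherian ⟨V, hV⟩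
  haveI : IsRegularRing A := isRegularRing_section hreg hV
  haveI : IsRegularRing P := inferInstanceAs (IsRegularRing (MvPolynomial (Fin m) A))
  let MW := Γ(F, W)
  haveI : Module.Finite B MW := QCohLib.finite_sections_of_isCoh hF hW
  letI : Module P MW := Module.compHom MW (algebraMap P B)
  haveI : IsScalarTower P B MW := .of_algebraMap_smul fun _ _ => rfl
  haveI : Module.Finite P B := Module.Finite.of_surjective (Algebra.linearMap P B) hπ'
  haveI : Module.Finite P MW := Module.Finite.trans B MW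
  let T := Spec (CommRingCat.of P)
  let τ : T ⟶ S := Spec.map (CommRingCat.ofHom (algebraMap A P)) ≫ hV.fromSpec
  haveI : LocallyOfFiniteType (Spec.map (CommRingCat.ofHom (algebraMap A P))) :=
    HasRingHomProperty.Spec_iff.2 (RingHom.finiteType_algebraMap.2 inferInstance)
  haveI : IsLocallyNoetherian T := LocallyOfFiniteType.isLocallyNoetherian τ
  haveI : JacobsonSpace T := LocallyOfFiniteType.jacobsonSpace τ
  have hT2 := universallyCatenary_stalks h2 τ
  have hT3 := components_equidim h2 h3 τ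
  have hX2 := universallyCatenary_stalks h2 g
  have hX3 := components_equidim h2 h3 g
  let ρ : PrimeSpectrum B → PrimeSpectrum P := PrimeSpectrum.comap (algebraMap P B)
  obtain ⟨Φ, hΦ, hΦr⟩ : ∃ Φ : PrimeSpectrum B ↪o PrimeSpectrum P, (∀ q, Φ q = ρ q) ∧ (Set.range Φ).OrdConnected := by
    refine ⟨OrderEmbedding.ofMapLEIff ρ fun a b => Ideal.comap_le_comap_iff_of_surjective _ hπ' _ _, fun _ => rfl, ?_⟩
    refine ⟨fun a ha b _ c hc => ?_⟩
    obtain ⟨a, rfl⟩ := ha
    have hker : RingHom.ker (algebraMap P B) ≤ c.asIdeal := le_trans (fun z hz => by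
      show algebraMap P B z ∈ a.asIdeal
      rw [RingHom.mem_ker.1 hz]
      exact zero_mem _) hc.1
    exact ⟨⟨c.asIdeal.map (algebraMap P B), Ideal.map_isPrime_of_surjective hπ' hker⟩, PrimeSpectrum.ext (by
      show (c.asIdeal.map _).comap _ = _
      rw [Ideal.comap_map_of_surjective' _ hπ']
      exact sup_eq_left.2 hker)⟩
  have hdimcl : ∀ q : PrimeSpectrum B, topologicalKrullDim ↥(closure ({hW.fromSpec q} : Set X)) =
      topologicalKrullDim ↥(closure ({(ρ q : T)} : Set T)) := fun q => by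
    obtain ⟨M, hM, hqM⟩ := Ideal.exists_le_maximal q.asIdeal q.isPrime.ne_top
    let mm : PrimeSpectrum B := ⟨M, hM.isPrime⟩
    have h1 : topologicalKrullDim ↥(closure ({(ρ q : T)} : Set T)) = Order.krullDim (Set.Icc (ρ q) (ρ mm)) :=
      krullDim_closure_eq_Icc hT2 hT3 (𝟙 T) (show ρ q ≤ ρ mm from Ideal.comap_mono hqM)
        (Ideal.comap_isMaximal_of_surjective _ hπ')
    rw [h1, krullDim_closure_eq_Icc hX2 hX3 hW.fromSpec (show q ≤ mm from hqM) hM,
      krullDim_Icc_congr Φ hΦr, hΦ, hΦ]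
  have hdom : ∀ p : PrimeSpectrum P, IsDomain (T.presheaf.stalk p) := fun p => by
    haveI : IsDomain (Localization.AtPrime p.asIdeal) := RegLocal.isDomain _
    exact (AlgebraicGeometry.Spec.stalkIso (.of P) p).commRingCatIsoToRingEquiv.toMulEquiv.isDomain
  have hdim : ∀ p : PrimeSpectrum P, ∀ η : T, η ⤳ (p : T) → (∀ w, w ⤳ η → w = η) →
      ∃ d t N : ℕ, ringKrullDim (Localization.AtPrime p.asIdeal) = (d : WithBot ℕ∞) ∧
        topologicalKrullDim ↥(closure ({(p : T)} : Set T)) = (t : WithBot ℕ∞) ∧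
        topologicalKrullDim ↥(closure ({η} : Set T)) = (N : WithBot ℕ∞) ∧ d + t = N := by
    intro p η hηp hη
    obtain ⟨t, ht⟩ := exists_nat_dim_closure hT2 hT3 (p : T)
    obtain ⟨N, hN⟩ := exists_nat_dim_closure hT2 hT3 η
    obtain ⟨d, hd⟩ := ENat.ne_top_iff_exists.1 (dist_ne_top (catOrd hT2) (ofPoint_le.2 hηp))
    have hadd := dim_closure_eq_add hT2 hT3 hηp
    rw [ht, hN, ← hd] at hadd
    refine ⟨d, t, N, ?_, ht, hN, by have : N = t + d := (by exact_mod_cast hadd); omega⟩
    rw [← ringKrullDim_eq_of_ringEquiv (AlgebraicGeometry.Spec.stalkIso (.of P) p).commRingCatIsoToRingEquiv]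
    haveI := hdom p
    have hset : {t : T | t ∈ closure ({η} : Set T) ∧ t ⤳ (p : T)} = Set.range (T.fromSpecStalk p) := by
      rw [Scheme.range_fromSpecStalk]
      refine Set.ext fun w => ⟨fun h => h.2, fun h => ⟨?_, h⟩⟩
      have h' : w ⤳ (p : T) := h
      obtain ⟨e, hew, he⟩ := (⟨_, (DimFormulaLib.exists_maximal_point w).choose_spec⟩ :
        ∃ e : T, e ⤳ w ∧ ∀ v, v ⤳ e → v = e)
      rw [eq_of_maximal_of_isDomain (p : T) hηp (hew.trans h') hη he]
      exact specializes_iff_mem_closure.1 hew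
    have hemb : IsEmbedding (T.fromSpecStalk p) := (T.fromSpecStalk p).isEmbedding
    have h := topologicalKrullDim_interval hηp
    rw [hset, ← IsHomeomorph.topologicalKrullDim_eq _ hemb.toHomeomorph.isHomeomorph, ← hd] at h
    exact (PrimeSpectrum.topologicalKrullDim_eq_ringKrullDim _).symm.trans h
  obtain ⟨q₀, hq₀⟩ : x ∈ Set.range hW.fromSpec := hW.range_fromSpec.symm ▸ hxW
  obtain ⟨η₀, hη₀p, hη₀⟩ := DimFormulaLib.exists_maximal_point (X := T) (ρ q₀)
  obtain ⟨N₀, hN₀⟩ := exists_nat_dim_closure hT2 hT3 η₀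
  let Mx : Set T := {η | (∀ w, w ⤳ η → w = η) ∧ η ≠ η₀}
  have hfin : {η : T | ∀ w, w ⤳ η → w = η}.Finite := by
    have hfin := NoetherianSpace.finite_irreducibleComponents (α := PrimeSpectrum P)
    refine Set.Finite.of_finite_image (f := fun η => closure ({η} : Set T)) (hfin.subset ?_) fun a ha b hb hab => ?_
    · rintro _ ⟨η, hη, rfl⟩
      exact DimFormulaLib.closure_mem_irreducibleComponents hη
    · have hab' : closure ({a} : Set T) = closure {b} := hab
      have hba : b ⤳ a := specializes_iff_mem_closure.2 (hab' ▸ (subset_closure rfl : a ∈ closure ({a} : Set T)))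
      exact (ha b hba).symm
  let Z : Set T := ⋃ η ∈ Mx, closure {η}
  have hZ : IsClosed Z := (hfin.subset fun η hη => hη.1).isClosed_biUnion fun _ _ => isClosed_closure
  have hq₀Z : (ρ q₀ : T) ∉ Z := fun h => by
    obtain ⟨η, hη, hq⟩ := Set.mem_iUnion₂.1 h
    haveI := hdom (ρ q₀)
    exact hη.2 (eq_of_maximal_of_isDomain (ρ q₀ : T) (specializes_iff_mem_closure.2 hq) hη₀p hη.1 hη₀)
  let G : Set (PrimeSpectrum P) := Zᶜ ∩ {p | (n ≤ N₀ ∧ PdLE P (Localization.AtPrime p.asIdeal) MW (N₀ - n)) ∨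
      Subsingleton (Localization.AtPrime p.asIdeal ⊗[P] MW)}
  have hG : IsOpen G := hZ.isOpen_compl.inter (isOpen_depth_add_const MW N₀ n)
  have key : ∀ q : PrimeSpectrum B, (ρ q : T) ∉ Z → ((n : WithBot ℕ∞) ≤ pstar F (hW.fromSpec q) ↔
      ((n ≤ N₀ ∧ PdLE P (Localization.AtPrime (ρ q).asIdeal) MW (N₀ - n)) ∨
        Subsingleton (Localization.AtPrime (ρ q).asIdeal ⊗[P] MW))) := by
    intro q hq
    let x' := hW.fromSpec q
    have hx' : x' ∈ W := by
      rw [← SetLike.mem_coe, ← hW.range_fromSpec]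
      exact ⟨q, rfl⟩
    obtain ⟨η, hηp, hη⟩ := DimFormulaLib.exists_maximal_point (X := T) (ρ q)
    have he : η = η₀ := by_contra fun hne =>
      hq (Set.mem_iUnion₂.2 ⟨η, ⟨hη, hne⟩, specializes_iff_mem_closure.1 hηp⟩)
    obtain ⟨d, t, N, hd, ht, hN, hdt⟩ := hdim (ρ q) η hηp hη
    have hNN : N = N₀ := by
      rw [he, hN₀] at hN
      exact_mod_cast hN.symm
    letI : Algebra B (X.presheaf.stalk x') := TopCat.Presheaf.algebra_section_stalk X.presheaf ⟨x', hx'⟩
    letI := Module.compHom (F.presheaf.stalk x') (X.presheaf.germ W x' hx').hom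
    haveI : IsScalarTower B (X.presheaf.stalk x') (F.presheaf.stalk x') := .of_algebraMap_smul fun _ _ => rfl
    have hprime : hW.primeIdealOf ⟨x', hx'⟩ = q := hW.fromSpec.isOpenEmbedding.injective (hW.fromSpec_primeIdealOf _)
    obtain ⟨gg, hgg⟩ := GenFree.exists_isLocalizedModule_germ F hW x' hx'
    rw [hprime] at hgg
    haveI := hgg
    haveI : IsLocalization.AtPrime (X.presheaf.stalk x') q.asIdeal := by
      have h := hW.isLocalization_stalk ⟨x', hx'⟩
      rwa [hprime] at h
    obtain ⟨h1, -⟩ := depth_presentation (O := X.presheaf.stalk x') hπ' q gg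
    have h1' : tensDepth P (Localization.AtPrime (ρ q).asIdeal) MW =
        LocCoh.depth (X.presheaf.stalk x') (F.presheaf.stalk x') := h1
    rw [← natCast_le_depth_add_iff' (P := P) (R := Localization.AtPrime (ρ q).asIdeal) MW d t N₀ hd
      (hdt.trans hNN) n, pstar, hdimcl q, ht, h1']
    exact WithBot.coe_le_coe (a := (n : ℕ∞))
  refine ⟨hW.fromSpec '' (ρ ⁻¹' G), ?_,
    hW.fromSpec.isOpenEmbedding.isOpenMap _ (hG.preimage (PrimeSpectrum.continuous_comap (algebraMap P B))), ?_⟩
  · rintro _ ⟨q, hq, rfl⟩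
    exact (key q hq.1).2 hq.2
  · refine ⟨q₀, ⟨hq₀Z, (key q₀ hq₀Z).1 ?_⟩, hq₀⟩
    rw [hq₀]
    exact hx

end Groth.Agent.JacEquidimLib
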